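import Cfsg.Agent.H886.HT.SpFour
import Cfsg.Agent.H690.OwnD.Mem

/-!
# S4933, own characteristic: `Row 2 (PSp 2 F)`, `char F = 2`, `4 ≤ |F|` (helper886)
-/

set_option autoImplicit false

namespace Cfsg.Agent.H886.HT

open Cfsg Cfsg.Agent.H316.HT

/-- **`PSp_4(q)`, `q ≥ 4` even, `p = 2`** -/
theorem row2_psp4 (F : Type) [Field F] [Fintype F] [CharP F 2] (hF : 4 ≤ Fintype.card F) : Row 2 (PSp 2 F) := by
  have : Fact (Nat.Prime 2) := ⟨Nat.prime_two⟩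
  refine H298.HT.Row.congr (GpSp.Row.toPSp F 2) (row_of_dz (by rwa [Nat.card_eq_fintype_card]) fun M hM ψ hψ => ?_)
  have hL : IsLieTypeChar 2 (Sp 2 F) :=
    Or.inr (Or.inl ⟨F, inferInstance, inferInstance, inferInstance, 2, le_rfl, fun _ => by omega,
      ⟨GpSp.Row.toPSp F 2⟩⟩)
  exact H690.OwnD.dz_own hL hM hψ

end Cfsg.Agent.H886.HT
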