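import Cfsg.Agent.ClassicalGeometry.SympBasic
import Mathlib.GroupTheory.PGroup

/-!
# S4933, own characteristic: the point stabilizer of `Sp_{2m}(q)`, `q` even (helper886)

`rad e` : the radical of the stabilizer `pt e` of the point `⟨e⟩`: `mem_pt_iff` (`pt e = N(rad e)`), `fix_rad`, `mem_rad_of_comm`,
`isPGroup_rad`, `pt_self`, `index_pt`.
-/

set_option autoImplicit false

namespace Cfsg.Agent.H886.HT

open Matrix Cfsg Cfsg.Agent.ClassicalGeometry.SympBasic

variable {m : ℕ} {F : Type*} [Field F]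

/-- the symplectic group -/
abbrev Sp (m : ℕ) (F : Type*) [Field F] := Matrix.symplecticGroup (Fin m) F

/-- the action on vectors -/
def mv (g : Sp m F) (v : Fin m ⊕ Fin m → F) : Fin m ⊕ Fin m → F := (g : Matrix (Fin m ⊕ Fin m) (Fin m ⊕ Fin m) F) *ᵥ v

theorem mv_mul (g h : Sp m F) (v : Fin m ⊕ Fin m → F) : mv (g * h) v = mv g (mv h v) := coe_mul_mulVec g h v

theorem mv_one (v : Fin m ⊕ Fin m → F) : mv (1 : Sp m F) v = v := Matrix.one_mulVec v

theorem mv_inv_mv (g : Sp m F) (v : Fin m ⊕ Fin m → F) : mv g⁻¹ (mv g v) = v := by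
  rw [← mv_mul, inv_mul_cancel, mv_one]

theorem mv_mv_inv (g : Sp m F) (v : Fin m ⊕ Fin m → F) : mv g (mv g⁻¹ v) = v := by
  rw [← mv_mul, mul_inv_cancel, mv_one]

theorem mv_add (g : Sp m F) (v w : Fin m ⊕ Fin m → F) : mv g (v + w) = mv g v + mv g w := Matrix.mulVec_add _ v w

theorem mv_smul (g : Sp m F) (c : F) (v : Fin m ⊕ Fin m → F) : mv g (c • v) = c • mv g v := Matrix.mulVec_smul _ c v

theorem mv_zero (g : Sp m F) : mv g (0 : Fin m ⊕ Fin m → F) = 0 := Matrix.mulVec_zero _

theorem form_mv (g : Sp m F) (v w : Fin m ⊕ Fin m → F) : sympForm m F (mv g v) (mv g w) = sympForm m F v w :=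
  sympForm_mulVec g.2 v w

theorem ext_mv {g h : Sp m F} (H : ∀ v, mv g v = mv h v) : g = h :=
  Subtype.ext (Matrix.mulVec_injective (funext H))

theorem mv_transv (v x : Fin m ⊕ Fin m → F) (c : F) : mv (transv v c) x = x + (c * sympForm m F x v) • v :=
  sympTransvection_mulVec v x c

theorem exists_one {e : Fin m ⊕ Fin m → F} (he : e ≠ 0) : ∃ y, sympForm m F y e = 1 := by
  by_contra hc
  push Not at hc
  apply he
  apply eq_zero_of_forall_sympForm_right
  intro y
  by_contra h
  have h' : sympForm m F y e ≠ 0 := by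
    rw [sympForm_swap]
    exact neg_ne_zero.2 h
  apply hc ((sympForm m F y e)⁻¹ • y)
  rw [sympForm_smul_left, inv_mul_cancel₀ h']

theorem exists_smul_of_perp {e v : Fin m ⊕ Fin m → F} (he : e ≠ 0)
    (h : ∀ w, sympForm m F w e = 0 → sympForm m F v w = 0) : ∃ c : F, v = c • e := by
  obtain ⟨y, hy⟩ := exists_one he
  refine ⟨-sympForm m F v y, eq_of_forall_sympForm_left fun w => ?_⟩
  have h1 := h (w - sympForm m F w e • y) (by rw [sympForm_sub_left, sympForm_smul_left, hy, mul_one, sub_self])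
  rw [sympForm_sub_right, sympForm_smul_right, sub_eq_zero] at h1
  rw [sympForm_swap w v, h1, sympForm_smul_right]
  ring

/-- the radical of the stabilizer of the point `⟨e⟩` -/
def rad (e : Fin m ⊕ Fin m → F) : Subgroup (Sp m F) where
  carrier := {g | mv g e = e ∧ ∀ v, sympForm m F v e = 0 → ∃ c : F, mv g v = v + c • e}
  one_mem' := ⟨mv_one e, fun v _ => ⟨0, by rw [mv_one, zero_smul, add_zero]⟩⟩
  mul_mem' := by
    rintro a b ⟨ha, ha'⟩ ⟨hb, hb'⟩
    refine ⟨by rw [mv_mul, hb, ha], fun v hv => ?_⟩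
    obtain ⟨c, hc⟩ := hb' v hv
    obtain ⟨d, hd⟩ := ha' v hv
    exact ⟨d + c, by rw [mv_mul, hc, mv_add, mv_smul, ha, hd, add_smul, add_assoc]⟩
  inv_mem' := by
    rintro a ⟨ha, ha'⟩
    have h1 : mv a⁻¹ e = e := by
      have := mv_inv_mv a e
      rwa [ha] at this
    refine ⟨h1, fun v hv => ?_⟩
    obtain ⟨c, hc⟩ := ha' v hv
    refine ⟨-c, ?_⟩
    have h2 := mv_inv_mv a v
    rw [hc, mv_add, mv_smul, h1] at h2
    rw [neg_smul, ← sub_eq_add_neg, eq_sub_iff_add_eq, h2]

theorem mem_rad {e : Fin m ⊕ Fin m → F} {g : Sp m F} :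
    g ∈ rad e ↔ mv g e = e ∧ ∀ v, sympForm m F v e = 0 → ∃ c : F, mv g v = v + c • e := Iff.rfl

/-- the stabilizer of the point `⟨e⟩` -/
def pt (e : Fin m ⊕ Fin m → F) (he : e ≠ 0) : Subgroup (Sp m F) where
  carrier := {g | ∃ c : F, mv g e = c • e}
  one_mem' := ⟨1, by rw [mv_one, one_smul]⟩
  mul_mem' := by
    rintro a b ⟨c, hc⟩ ⟨d, hd⟩
    exact ⟨d * c, by rw [mv_mul, hd, mv_smul, hc, smul_smul]⟩
  inv_mem' := by
    rintro a ⟨c, hc⟩
    have h0 : c ≠ 0 := by
      rintro rfl
      rw [zero_smul] at hc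
      have := mv_inv_mv a e
      rw [hc, mv_zero] at this
      exact he this.symm
    refine ⟨c⁻¹, ?_⟩
    have h2 := mv_inv_mv a e
    rw [hc, mv_smul] at h2
    have h3 := congrArg (c⁻¹ • ·) h2
    simp only [smul_smul, inv_mul_cancel₀ h0, one_smul] at h3
    exact h3

theorem mem_pt {e : Fin m ⊕ Fin m → F} {he : e ≠ 0} {g : Sp m F} : g ∈ pt e he ↔ ∃ c : F, mv g e = c • e := Iff.rfl

theorem ne_zero_of_mv {e : Fin m ⊕ Fin m → F} (he : e ≠ 0) {g : Sp m F} {c : F} (h : mv g e = c • e) : c ≠ 0 := by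
  rintro rfl
  rw [zero_smul] at h
  have := mv_inv_mv g e
  rw [h, mv_zero] at this
  exact he this.symm

theorem transv_mem_rad (e : Fin m ⊕ Fin m → F) (c : F) : transv e c ∈ rad e := by
  refine ⟨by rw [mv_transv, sympForm_self, mul_zero, zero_smul, add_zero], fun v hv => ⟨0, ?_⟩⟩
  rw [mv_transv, hv, mul_zero]

section two

variable [CharP F 2]

/-- the elements of the radical -/
def sg (e w : Fin m ⊕ Fin m → F) : Sp m F := transv (e + w) 1 * (transv e 1 * transv w 1)

theorem two_smul' (v : Fin m ⊕ Fin m → F) : v + v = 0 := by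
  funext i
  exact CharTwo.add_self_eq_zero (v i)

theorem sg_apply {e w : Fin m ⊕ Fin m → F} (h : sympForm m F w e = 0) (x : Fin m ⊕ Fin m → F) :
    mv (sg e w) x = x + (sympForm m F x e • w + sympForm m F x w • e) := by
  have h' : sympForm m F e w = 0 := by rw [sympForm_swap, h, neg_zero]
  unfold sg
  rw [mv_mul, mv_mul, mv_transv, mv_transv, mv_transv]
  simp only [sympForm_add_left, sympForm_add_right, sympForm_smul_left, sympForm_self, h, h', mul_zero,
    add_zero, one_mul]
  funext i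
  simp only [Pi.add_apply, Pi.smul_apply, smul_eq_mul]
  have h2 : (2 : F) = 0 := CharTwo.two_eq_zero
  linear_combination (sympForm m F x w * w i + sympForm m F x e * e i) * h2

theorem sg_mem {e w : Fin m ⊕ Fin m → F} (h : sympForm m F w e = 0) : sg e w ∈ rad e := by
  have h' : sympForm m F e w = 0 := by rw [sympForm_swap, h, neg_zero]
  refine ⟨?_, fun v hv => ⟨sympForm m F v w, ?_⟩⟩
  · rw [sg_apply h, sympForm_self, h', zero_smul, zero_smul, add_zero, add_zero]
  · rw [sg_apply h, hv, zero_smul, zero_add]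

/-- the fixed vectors of the radical -/
theorem fix_rad {e v : Fin m ⊕ Fin m → F} (he : e ≠ 0) (h : ∀ g ∈ rad e, mv g v = v) : ∃ c : F, v = c • e := by
  have h1 : sympForm m F v e = 0 := by
    have h2 := h _ (transv_mem_rad e 1)
    rw [mv_transv, one_mul, add_eq_left] at h2
    exact (smul_eq_zero.1 h2).resolve_right he
  refine exists_smul_of_perp he fun w hw => ?_
  have h2 := h _ (sg_mem hw)
  rw [sg_apply hw, h1, zero_smul, zero_add, add_eq_left] at h2
  exact (smul_eq_zero.1 h2).resolve_right he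

/-- the centralizer of the radical in the stabilizer of the vector is in the radical -/
theorem mem_rad_of_comm {e : Fin m ⊕ Fin m → F} (he : e ≠ 0) {z : Sp m F} (hz : mv z e = e)
    (h : ∀ g ∈ rad e, z * g = g * z) : z ∈ rad e := by
  refine ⟨hz, fun w hw => ?_⟩
  obtain ⟨y, hy⟩ := exists_one he
  have h1 := congrArg (fun g => mv g y) (h _ (sg_mem hw))
  simp only [mv_mul] at h1
  rw [sg_apply hw, sg_apply hw, mv_add, mv_add, mv_smul, mv_smul, hz, hy, one_smul] at h1
  have h2 : sympForm m F (mv z y) e = 1 := by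
    have h3 := form_mv z y e
    rwa [hz, hy] at h3
  rw [h2, one_smul, add_right_inj] at h1
  refine ⟨sympForm m F (mv z y) w - sympForm m F y w, ?_⟩
  rw [sub_smul, ← add_sub_assoc, ← h1, add_sub_cancel_right]

theorem pow_four {e : Fin m ⊕ Fin m → F} {g : Sp m F} (hg : g ∈ rad e) : g ^ 4 = 1 := by
  have key : ∀ x, ∃ c : F, mv (g * g) x = x + c • e := by
    intro x
    have h1 : sympForm m F (mv g x - x) e = 0 := by
      rw [sympForm_sub_left]
      have h2 := form_mv g x e
      rw [hg.1] at h2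
      rw [h2, sub_self]
    obtain ⟨c, hc⟩ := hg.2 _ h1
    refine ⟨c, ?_⟩
    have h3 : mv g x = x + (mv g x - x) := by abel
    rw [mv_mul, h3, mv_add, hc]
    nth_rw 1 [h3]
    have h4 := two_smul' (mv g x - x)
    calc x + (mv g x - x) + (mv g x - x + c • e) = x + ((mv g x - x) + (mv g x - x)) + c • e := by abel
      _ = x + c • e := by rw [h4, add_zero]
  apply ext_mv
  intro x
  obtain ⟨c, hc⟩ := key x
  have h2 : mv (g * g) e = e := by rw [mv_mul, hg.1, hg.1]
  have h3 : g ^ 4 = (g * g) * (g * g) := by simp only [pow_succ, pow_zero, one_mul, mul_assoc]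
  rw [h3, mv_mul, hc, mv_add, mv_smul, h2, hc, mv_one, add_assoc, two_smul' (c • e), add_zero]

theorem isPGroup_rad (e : Fin m ⊕ Fin m → F) : IsPGroup 2 (rad e) := fun g =>
  ⟨2, Subtype.ext (by
    rw [Subgroup.coe_pow, Subgroup.coe_one]
    exact pow_four g.2)⟩

/-- **the stabilizer of the point is the normalizer of its radical** -/
theorem mem_pt_iff {e : Fin m ⊕ Fin m → F} (he : e ≠ 0) (s : Sp m F) :
    s ∈ pt e he ↔ ∀ y, y ∈ rad e ↔ s * y * s⁻¹ ∈ rad e := by
  constructor
  · have key : ∀ s : Sp m F, s ∈ pt e he → ∀ y, y ∈ rad e → s * y * s⁻¹ ∈ rad e := by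
      rintro s hs y ⟨h1, h2⟩
      obtain ⟨c, hc⟩ := hs
      obtain ⟨d, hd⟩ := (pt e he).inv_mem ⟨c, hc⟩
      have hd0 := ne_zero_of_mv he hd
      refine ⟨?_, fun v hv => ?_⟩
      · rw [mv_mul, mv_mul, hd, mv_smul, h1, ← hd, mv_mv_inv]
      · have h3 : sympForm m F (mv s⁻¹ v) e = 0 := by
          have h4 := form_mv s⁻¹ v e
          rw [hd, sympForm_smul_right, hv] at h4
          exact (mul_eq_zero.1 h4).resolve_left hd0
        obtain ⟨c', hc'⟩ := h2 _ h3
        exact ⟨c' * c, by rw [mv_mul, mv_mul, hc', mv_add, mv_mv_inv, mv_smul, hc, smul_smul]⟩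
    intro hs y
    refine ⟨key s hs y, fun h => ?_⟩
    have h1 := key s⁻¹ ((pt e he).inv_mem hs) _ h
    have h2 : s⁻¹ * (s * y * s⁻¹) * s⁻¹⁻¹ = y := by group
    rwa [h2] at h1
  · intro h
    have h1 : s⁻¹ ∈ pt e he := by
      obtain ⟨c, hc⟩ := fix_rad he (v := mv s⁻¹ e) fun y hy => by
        have h2 := ((h y).1 hy).1
        rw [mv_mul, mv_mul] at h2
        have h3 := congrArg (mv s⁻¹) h2
        rwa [mv_inv_mv] at h3
      exact ⟨c, hc⟩
    exact inv_inv s ▸ (pt e he).inv_mem h1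

omit [CharP F 2] in
theorem rad_le_pt {e : Fin m ⊕ Fin m → F} (he : e ≠ 0) : rad e ≤ pt e he := fun _ hg => ⟨1, by rw [hg.1, one_smul]⟩

/-- **the stabilizer of the point is its own normalizer** -/
theorem pt_self {e : Fin m ⊕ Fin m → F} (he : e ≠ 0) (s : Sp m F) (h : ∀ y, y ∈ pt e he ↔ s * y * s⁻¹ ∈ pt e he) :
    s ∈ pt e he := by
  have h1 : s⁻¹ ∈ pt e he := by
    obtain ⟨c, hc⟩ := fix_rad he (v := mv s⁻¹ e) fun y hy => by
      obtain ⟨c, hc⟩ := (h y).1 (rad_le_pt he hy)
      have h3 : mv y (mv s⁻¹ e) = c • mv s⁻¹ e := by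
        rw [mv_mul, mv_mul] at hc
        have h4 := congrArg (mv s⁻¹) hc
        rwa [mv_inv_mv, mv_smul] at h4
      have h5 : ∀ k : ℕ, mv (y ^ k) (mv s⁻¹ e) = c ^ k • mv s⁻¹ e := by
        intro k
        induction k with
        | zero => rw [pow_zero, pow_zero, mv_one, one_smul]
        | succ k ih => rw [pow_succ, mv_mul, h3, mv_smul, ih, smul_smul, ← pow_succ']
      have h6 := h5 4
      rw [pow_four hy, mv_one] at h6
      have hne : mv s⁻¹ e ≠ 0 := by
        intro h7
        have h8 := mv_mv_inv s e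
        rw [h7, mv_zero] at h8
        exact he h8.symm
      have h7 : c ^ 4 = 1 := by
        have h8 : (c ^ 4 - 1) • mv s⁻¹ e = 0 := by rw [sub_smul, ← h6, one_smul, sub_self]
        exact sub_eq_zero.1 ((smul_eq_zero.1 h8).resolve_right hne)
      have h8 : c = 1 := by
        have h9 : (c - 1) ^ 4 = 0 := by
          have h2 : (2 : F) = 0 := CharTwo.two_eq_zero
          linear_combination h7 + (1 - 2 * c + 3 * c ^ 2 - 2 * c ^ 3) * h2
        exact sub_eq_zero.1 (pow_eq_zero_iff (by norm_num) |>.1 h9)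
      rw [h3, h8, one_smul]
    exact ⟨c, hc⟩
  exact inv_inv s ▸ (pt e he).inv_mem h1

end two

/-! ### the index -/

/-- the action on vectors -/
@[reducible] def actV (m : ℕ) (F : Type*) [Field F] : MulAction (Sp m F) (Fin m ⊕ Fin m → F) where
  smul := mv
  one_smul := mv_one
  mul_smul := mv_mul

/-- **the index of the stabilizer of a point** -/
theorem index_pt [Finite F] {e : Fin m ⊕ Fin m → F} (he : e ≠ 0) :
    (pt e he).index * (Nat.card F - 1) + 1 = Nat.card F ^ (2 * m) := by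
  classical
  let _ := actV m F
  have hs : ∀ (g : Sp m F) (v : Fin m ⊕ Fin m → F), g • v = mv g v := fun _ _ => rfl
  have h1 : (MulAction.stabilizer (Sp m F) e).index = Nat.card F ^ (2 * m) - 1 := by
    refine (MulAction.index_stabilizer (Sp m F) (x := e)).trans ?_
    have h2 : MulAction.orbit (Sp m F) e = ({0} : Set (Fin m ⊕ Fin m → F))ᶜ := by
      ext v
      rw [MulAction.mem_orbit_iff, Set.mem_compl_iff, Set.mem_singleton_iff]
      constructor
      · rintro ⟨g, rfl⟩ h3
        rw [hs] at h3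
        have h4 := mv_inv_mv g e
        rw [h3, mv_zero] at h4
        exact he h4.symm
      · intro hv
        obtain ⟨A, -, hA⟩ := exists_transvGroup_mulVec_eq he hv
        exact ⟨A, hA⟩
    change (MulAction.orbit (Sp m F) e).ncard = _
    rw [h2, Set.ncard_compl, Set.ncard_singleton, Nat.card_fun, Nat.card_sum, Nat.card_eq_fintype_card (α := Fin m),
      Fintype.card_fin, two_mul]
  have h3 : MulAction.stabilizer (Sp m F) e ≤ pt e he := by
    intro g hg
    exact ⟨1, by rw [one_smul]; exact hg⟩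
  have h4 : (MulAction.stabilizer (Sp m F) e).relIndex (pt e he) = Nat.card F - 1 := by
    have h5 : (MulAction.stabilizer (Sp m F) e).subgroupOf (pt e he) = MulAction.stabilizer (pt e he) e := by
      ext g
      rfl
    rw [Subgroup.relIndex, h5]
    refine (MulAction.index_stabilizer (pt e he) (x := e)).trans ?_
    have h6 : MulAction.orbit (pt e he) e = Set.range fun c : Fˣ => (c : F) • e := by
      ext v
      rw [MulAction.mem_orbit_iff, Set.mem_range]
      constructor
      · rintro ⟨g, rfl⟩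
        obtain ⟨c, hc⟩ := g.2
        exact ⟨Units.mk0 c (ne_zero_of_mv he hc), hc.symm⟩
      · rintro ⟨c, rfl⟩
        obtain ⟨A, -, hA⟩ := exists_transvGroup_mulVec_eq he (smul_ne_zero c.ne_zero he)
        exact ⟨⟨A, ⟨c, hA⟩⟩, hA⟩
    have h7 : Function.Injective fun c : Fˣ => (c : F) • e := by
      intro c d hcd
      have h8 : ((c : F) - d) • e = 0 := by
        rw [sub_smul, sub_eq_zero]
        exact hcd
      exact Units.ext (sub_eq_zero.1 ((smul_eq_zero.1 h8).resolve_right he))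
    change (MulAction.orbit (pt e he) e).ncard = _
    rw [h6, ← Set.image_univ, Set.ncard_image_of_injective _ h7, Set.ncard_univ, Nat.card_units]
  have h5 := Subgroup.relIndex_mul_index h3
  rw [h4, h1] at h5
  have h6 : 0 < Nat.card F ^ (2 * m) := pow_pos Nat.card_pos _
  rw [mul_comm, h5]
  omega

/-- a `2`-subgroup fixes a nonzero vector -/
theorem exists_fix [Finite F] [CharP F 2] (hm : 0 < m) {U : Subgroup (Sp m F)} (hU : IsPGroup 2 U) :
    ∃ e : Fin m ⊕ Fin m → F, e ≠ 0 ∧ ∀ g ∈ U, mv g e = e := by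
  classical
  let _ := actV m F
  have : Fact (Nat.Prime 2) := ⟨Nat.prime_two⟩
  have hd : 2 ∣ Nat.card F := by
    have := Fintype.ofFinite F
    obtain ⟨n, hn, h⟩ := FiniteField.card F 2
    rw [Nat.card_eq_fintype_card, h]
    exact dvd_pow_self 2 n.ne_zero
  have hd' : 2 ∣ Nat.card (Fin m ⊕ Fin m → F) := by
    rw [Nat.card_fun, Nat.card_sum, Nat.card_eq_fintype_card (α := Fin m), Fintype.card_fin]
    exact dvd_pow hd (by omega)
  obtain ⟨e, he, hne⟩ := hU.exists_fixed_point_of_prime_dvd_card_of_fixed_point (Fin m ⊕ Fin m → F) hd'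
    (a := 0) (fun g => mv_zero (g : Sp m F))
  exact ⟨e, fun h => hne h.symm, fun g hg => he ⟨g, hg⟩⟩

end Cfsg.Agent.H886.HT
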