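import Cfsg.Agent.H886.HT.Two
import Cfsg.Agent.H886.HT.SpRad
import Cfsg.Agent.H40.HT.Own
import Cfsg.Agent.H40.OU.Perm
import Cfsg.Agent.H148.SP.Main
import Cfsg.Agent.H709.HT.IPTwo
import Cfsg.Agent.H103.HT.LowSp
import Cfsg.Agent.H298.HT.Vac
import Cfsg.Agent.GpSp.Row
import Cfsg.Agent.CharDeep.PowerDegrees
import Cfsg.Agent.S0245
import Cfsg.Agent.S2600

/-!
# S4933, own characteristic: `PSp_4(2^f)` (helper886)

`even_of_const` : the nontrivial constituents of the permutation character on the points have even degree;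
`row_of_dz` : `Row 2 (PSp 2 F)`, `char F = 2`, `4 ≤ |F|`, from: the characters outside the principal block have defect zero.
-/

set_option autoImplicit false

open scoped ComplexConjugate
open Cfsg

namespace Cfsg.Agent.H886.HT

open Cfsg.Agent.Characters Cfsg.Agent.Characters.Core Cfsg.Agent.Characters.Clifford Cfsg.Agent.H316.HT
  Cfsg.Agent.ClassicalGeometry.SympBasic
open Cfsg.Agent.H53.HC Cfsg.Agent.H641.Gow Cfsg.Agent.H148.GG Cfsg.Agent.H743.GG Cfsg.Agent.H40.OC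
open CoxeterSystem Cfsg.Agent.ChevalleyStructure.CoxeterGeom Cfsg.Agent.Tits.Roots Cfsg.Agent.Tits.Core
  Cfsg.Agent.Tits.Exchange Cfsg.Agent.Nodes.Reps Cfsg.Agent.Nodes.BNOf Cfsg.Agent.Nodes.StabComb
  Cfsg.Agent.Nodes.Bruhat Cfsg.Agent.Nodes.OppDec Cfsg.Agent.Nodes.LeviDec

universe u

/-- a `p`-subgroup of index prime to `p` is maximal -/
theorem le_of_index {G : Type u} [Group G] [Finite G] {p : ℕ} [hp : Fact p.Prime] {U R : Subgroup G} (hR : IsPGroup p R)
    (h : U ≤ R) (hU : ¬ p ∣ U.index) : R ≤ U := by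
  rw [← Subgroup.relIndex_eq_one]
  obtain ⟨k, hk⟩ := hR.index (U.subgroupOf R)
  have h1 : U.relIndex R ∣ U.index := Dvd.intro _ (Subgroup.relIndex_mul_index h)
  have h2 : U.relIndex R = p ^ k := hk
  rcases Nat.eq_zero_or_pos k with rfl | hk0
  · rw [h2, pow_zero]
  · exact absurd ((dvd_pow_self p hk0.ne').trans (h2 ▸ h1)) hU

theorem rad_le {m : ℕ} {F : Type*} [Field F] [Finite F] [CharP F 2] {e : Fin m ⊕ Fin m → F} (he : e ≠ 0)
    {U : Subgroup (Sp m F)} (hU : IsPGroup 2 U) (hfix : ∀ g ∈ U, mv g e = e)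
    (hmax : ∀ R : Subgroup (Sp m F), IsPGroup 2 R → U ≤ R → R ≤ U) : rad e ≤ U := by
  have : Fact (Nat.Prime 2) := ⟨Nat.prime_two⟩
  have h1 : U ≤ Subgroup.normalizer (rad e : Set (Sp m F)) := by
    intro g hg
    rw [Subgroup.mem_normalizer_iff]
    exact (mem_pt_iff he g).1 ⟨1, by rw [hfix g hg, one_smul]⟩
  exact le_sup_right.trans (hmax _ (hU.to_sup_of_normal_right' (isPGroup_rad e) h1) le_sup_left)

/-- **the constituents of the permutation character on the points** -/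
theorem even_of_frame {I W Y : Type} [Fintype I] [DecidableEq I] [Group W] [Group Y] {M : CoxeterMatrix I}
    {cs : CoxeterSystem M W} {A : I → I → ℤ} {h : IsCartan M A} {T : Subgroup Y} {n : I → Y}
    {X : (I → ℤ) → Subgroup Y} (R : RGD cs h 2 T n X) {E : I → Type} [∀ i, Field (E i)] (D : Adj T X E)
    [Finite W] [Finite Y] [∀ i, Finite (E i)] (hG : GG cs h T X = ⊤)
    (hT : ∀ t : T, (∀ i, D.a i t = 1) → t = 1) (hmo : MultOne cs h T X)
    (hN : ∀ f : ↥(UU cs h X) →* ℂˣ, ∀ u, (∀ i, co R D i u = 1) → f u = 1)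
    {m : ℕ} {F : Type} [Field F] [Finite F] [CharP F 2] (hm : 0 < m) (π : Sp m F ≃* Y)
    {e : Fin m ⊕ Fin m → F} (he : e ≠ 0) [Fintype (Sp m F)]
    (ψ : IrrCharacter (Sp m F)) (hψ : (ψ : Sp m F → ℂ) ≠ fun _ => 1)
    (hne : classInner (indFun (pt e he) fun _ => (1 : ℂ)) (ψ : Sp m F → ℂ) ≠ 0) :
    2 ∣ charDegree (ψ : Sp m F → ℂ) := by
  classical
  have h2 : Fact (Nat.Prime 2) := ⟨Nat.prime_two⟩
  have : Fintype Y := Fintype.ofFinite _
  by_contra hd
  -- the Sylow subgroup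
  obtain ⟨U, hU⟩ : ∃ U : Subgroup (Sp m F), U = (UU cs h X).comap π.toMonoidHom := ⟨_, rfl⟩
  have hUp : IsPGroup 2 U := by
    rw [hU]
    exact R.isPGroup_Upos.comap_of_injective π.toMonoidHom π.injective
  have hUi : ¬ 2 ∣ U.index := by
    rw [hU, Subgroup.index_comap_of_surjective _ π.surjective]
    have h1 := KFacts.RgdSyl.not_dvd_relIndex R
    rw [hG, Subgroup.relIndex_top_right] at h1
    exact h1
  obtain ⟨e₁, he₁, hfix⟩ := exists_fix hm hUp
  have hrad : rad e₁ ≤ U := rad_le he₁ hUp hfix fun R hR h => le_of_index hR h hUi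
  -- the Borel subgroup
  obtain ⟨B, hB⟩ : ∃ B : Subgroup (Sp m F), B = (RGD.B cs h T X).comap π.toMonoidHom := ⟨_, rfl⟩
  have hBpt : B ≤ pt e₁ he₁ := by
    intro b hb
    rw [hB] at hb
    have h1 := R.B_le_normalizer_U (Subgroup.mem_comap.1 hb)
    refine fix_rad he₁ fun g hg => ?_
    have h3 : b⁻¹ * g * b ∈ U := by
      have h4 := hrad hg
      rw [hU] at h4 ⊢
      have h5 := (Subgroup.mem_normalizer_iff''.1 h1 (π g)).1 h4
      rw [Subgroup.mem_comap]
      change π (b⁻¹ * g * b) ∈ _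
      rw [map_mul, map_mul, map_inv]
      exact h5
    have h4 := hfix _ h3
    rw [mv_mul, mv_mul] at h4
    have h5 := congrArg (mv b) h4
    rwa [mv_mv_inv] at h5
  -- transitivity on the points
  obtain ⟨g, -, hg⟩ := exists_transvGroup_mulVec_eq he₁ he
  have hg' : mv g e₁ = e := hg
  have hgi : mv g⁻¹ e = e₁ := by rw [← hg', mv_inv_mv]
  have h3 : classInner (indFun (pt e₁ he₁) fun _ => (1 : ℂ)) (ψ : Sp m F → ℂ) ≠ 0 := by
    have h4 := H40.HT.inner_ind_equiv (MulAut.conj g : Sp m F ≃* Sp m F) (pt e he) (pt e₁ he₁) (fun x => by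
      constructor
      · rintro ⟨c, hc⟩
        refine ⟨c, ?_⟩
        change mv (g * x * g⁻¹) e = c • e
        rw [mv_mul, mv_mul, hgi, hc, mv_smul, hg']
      · rintro ⟨c, hc⟩
        refine ⟨c, ?_⟩
        change mv (g * x * g⁻¹) e = c • e at hc
        rw [mv_mul, mv_mul, hgi] at hc
        have h5 := congrArg (mv g⁻¹) hc
        rwa [mv_inv_mv, mv_smul, hgi] at h5) ψ
    have h5 : (ψ : Sp m F → ℂ) ∘ (MulAut.conj g : Sp m F ≃* Sp m F) = ψ := by
      funext x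
      exact isIrr_isClassFunction ψ.2 x g
    rw [h5] at h4
    rw [h4]
    exact hne
  have : Fintype ↥(pt e₁ he₁) := Fintype.ofFinite _
  have : Fintype ↥(B.subgroupOf (pt e₁ he₁)) := Fintype.ofFinite _
  have : Fintype ↥B := Fintype.ofFinite _
  have fro : ∀ (H : Subgroup (Sp m F)) [Fintype H], classInner (indFun H fun _ => (1 : ℂ)) (ψ : Sp m F → ℂ) =
      classInner (fun _ : H => (1 : ℂ)) (fun k : H => (ψ : Sp m F → ℂ) k) := fun H _ =>
    Cfsg.Agent.OddOrderCharacters.Clifford.classInner_indFun H (fun _ => (1 : ℂ)) (ψ : Sp m F → ℂ)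
      (isIrr_isClassFunction ψ.2)
  have swp : ∀ (H : Subgroup (Sp m F)) [Fintype H], classInner (fun k : H => (ψ : Sp m F → ℂ) k) (fun _ : H => (1 : ℂ)) ≠ 0 ↔
      classInner (indFun H fun _ => (1 : ℂ)) (ψ : Sp m F → ℂ) ≠ 0 := by
    intro H _
    rw [fro H, ← classInner_conj_symm, ne_eq, map_eq_zero]
  have one1 : IsIrrCharacter ↥(pt e₁ he₁) fun _ => 1 := Cfsg.Agent.Blocks.Basic.isIrrCharacter_one
  have one2 : IsIrrCharacter ↥(B.subgroupOf (pt e₁ he₁)) fun _ => 1 := Cfsg.Agent.Blocks.Basic.isIrrCharacter_one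
  have h4 := H40.HT.inner_trans (pt e₁ he₁) (B.subgroupOf (pt e₁ he₁)) ψ ⟨_, one1⟩ ⟨_, one2⟩ ((swp _).2 h3) (by
    change classInner (fun _ : ↥(B.subgroupOf (pt e₁ he₁)) => (1 : ℂ)) (fun _ => 1) ≠ 0
    rw [classInner_def]
    simp)
  have h5 : classInner (indFun B fun _ => (1 : ℂ)) (ψ : Sp m F → ℂ) ≠ 0 := by
    rw [← swp]
    have h6 := classInner_comp_mulEquiv (Subgroup.subgroupOfEquivOfLe hBpt) (fun k : B => (ψ : Sp m F → ℂ) k) (fun _ => 1)
    rw [← h6]
    exact h4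
  -- the group `Y`
  let χ : IrrCharacter Y := ⟨(ψ : Sp m F → ℂ) ∘ π.symm.toMonoidHom, isIrr_comp π.symm.toMonoidHom π.symm.surjective ψ.2⟩
  have hχ : (χ : Y → ℂ) ∘ π = ψ := by
    funext x
    change (ψ : Sp m F → ℂ) (π.symm (π x)) = _
    rw [π.symm_apply_apply]
  have h6 := H40.HT.inner_ind_equiv π (RGD.B cs h T X) B (fun x => by rw [hB]; rfl) χ
  rw [hχ] at h6
  rw [h6] at h5
  have hdeg : charDegree (χ : Y → ℂ) = charDegree (ψ : Sp m F → ℂ) := by
    rw [← hχ]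
    unfold charDegree
    rw [Function.comp_apply, map_one]
  have h7 := H40.OU.eq_one_Y R D hG hT hmo hN χ h5 (by rw [hdeg]; exact hd)
  apply hψ
  rw [← hχ, h7]
  rfl

/-- `|S|_2` is larger than the degree -/
theorem lt_fact {F : Type} [Field F] [Fintype F] [CharP F 2] {A : Type} [Group A] [Finite A] (N : Subgroup A) [N.Normal]
    (hC : Subgroup.centralizer (N : Set A) = ⊥) (e : N ≃* Sp 2 F) (P : Sylow 2 A) {a : ℕ}
    (hcd : CD 2 a (P : Subgroup A)) : a < (Nat.card (Sp 2 F)).factorization 2 := by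
  classical
  have h2 : Fact (Nat.Prime 2) := ⟨Nat.prime_two⟩
  by_contra hc
  push Not at hc
  obtain ⟨f, hf0, hf⟩ := FiniteField.card F 2
  have hf1 : 1 ≤ (f : ℕ) := f.pos
  -- the order of `S`
  have hord : 2 ^ (4 * (f : ℕ)) ∣ Nat.card (Sp 2 F) := by
    have h3 := Cfsg.Agent.S0245.result hf 2
    change Nat.card (Sp 2 F) = _ at h3
    rw [h3, ← pow_mul]
    refine Dvd.dvd.mul_right ?_ _
    exact pow_dvd_pow 2 (by omega)
  have hv : 4 * (f : ℕ) ≤ (Nat.card (Sp 2 F)).factorization 2 :=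
    (Nat.prime_two.pow_dvd_iff_le_factorization Nat.card_pos.ne').1 hord
  -- the index
  have hidx : N.index ∣ 2 * (f : ℕ) := by
    have h3 := H298.HT.index_dvd_out N hC (e.trans (GpSp.Row.toPSp F 2))
    have h4 := (Cfsg.Agent.S2600.result (F := F) hf1 hf).2
    have h5 : (MulAut.conj : PSp 2 F →* MulAut (PSp 2 F)).range.index = Nat.card (Cfsg.Out (PSp 2 F)) := rfl
    rwa [h5, h4] at h3
  have hN : N.index ≤ 2 * (f : ℕ) := Nat.le_of_dvd (by omega) hidx
  -- the order of `P`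
  have hNe : N.index ≠ 0 := Subgroup.index_ne_zero_of_finite
  have hcA : Nat.card A = Nat.card (Sp 2 F) * N.index := by
    rw [← Nat.card_congr e.toEquiv, N.card_mul_index]
  have hP : Nat.card (P : Subgroup A) ≤ 2 ^ (Nat.card (Sp 2 F)).factorization 2 * (2 * (f : ℕ)) := by
    rw [P.card_eq_multiplicity, hcA, Nat.factorization_mul Nat.card_pos.ne' hNe, Finsupp.add_apply, pow_add]
    exact Nat.mul_le_mul_left _ ((Nat.ordProj_le 2 hNe).trans hN)
  obtain ⟨φ, hφ⟩ := hcd.2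
  have hsq : charDegree (φ : ↥(P : Subgroup A) → ℂ) ^ 2 ≤ Nat.card (P : Subgroup A) := by
    have hfin : Finite (IrrCharacter ↥(P : Subgroup A)) := finite_irr
    have := Fintype.ofFinite (IrrCharacter ↥(P : Subgroup A))
    have := Fintype.ofFinite ↥(P : Subgroup A)
    have hs : ∑ χ : IrrCharacter ↥(P : Subgroup A), charDegree (χ : ↥(P : Subgroup A) → ℂ) ^ 2 =
        Nat.card (P : Subgroup A) := by
      have h := Cfsg.Agent.CharDeep.PowerDegrees.sum_sq (G := ↥(P : Subgroup A))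
      have h2 : ∑ χ : IrrCharacter ↥(P : Subgroup A), (χ : ↥(P : Subgroup A) → ℂ) 1 ^ 2 =
          ((∑ χ : IrrCharacter ↥(P : Subgroup A), charDegree (χ : ↥(P : Subgroup A) → ℂ) ^ 2 : ℕ) : ℂ) := by
        push_cast
        refine Finset.sum_congr rfl fun χ _ => ?_
        rw [H40.HT.cast_deg χ]
      rw [h2] at h
      exact_mod_cast h
    rw [← hs]
    exact Finset.single_le_sum (f := fun χ : IrrCharacter ↥(P : Subgroup A) =>
      charDegree (χ : ↥(P : Subgroup A) → ℂ) ^ 2) (fun _ _ => Nat.zero_le _) (Finset.mem_univ φ)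
  rw [hφ] at hsq
  have h3 : (2 ^ a) ^ 2 ≤ 2 ^ a * (2 * (f : ℕ)) :=
    hsq.trans (hP.trans (Nat.mul_le_mul_right _ (Nat.pow_le_pow_right (by norm_num) hc)))
  have h4 : 2 ^ a ≤ 2 * (f : ℕ) := by
    rw [pow_two] at h3
    exact Nat.le_of_mul_le_mul_left h3 (by positivity)
  have h5 : 2 ^ (4 * (f : ℕ)) ≤ 2 ^ a := Nat.pow_le_pow_right (by norm_num) (hv.trans hc)
  have h6 : 4 * (f : ℕ) < 2 ^ (4 * (f : ℕ)) := Nat.lt_two_pow_self
  omega

/-- **the row of `Sp_4(2^f)`** -/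
theorem row_of_dz {F : Type} [Field F] [Fintype F] [CharP F 2] (hF : 4 ≤ Nat.card F)
    (hdz : ∀ M : Ideal AlgInt, IsPModular 2 M → ∀ ψ : IrrCharacter (Sp 2 F), ψ ∉ principalBlock M (Sp 2 F) →
      2 ^ (Nat.card (Sp 2 F)).factorization 2 ∣ charDegree (ψ : Sp 2 F → ℂ)) : Row 2 (Sp 2 F) := by
  classical
  intro A _ _ N _ ⟨e⟩ hC M hM P a ha hcd
  have h2 : Fact (Nat.Prime 2) := ⟨Nat.prime_two⟩
  have hlow : Nat.card F ≤ 2 ^ a := (H103.HT.low_sp4 (F := F) (p := 2)).le e P hcd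
  have ha2 : 2 ≤ a := by
    by_contra hc
    have h3 : 2 ^ a ≤ 2 ^ 1 := Nat.pow_le_pow_right (by norm_num) (by omega)
    omega
  have hcl := H709.HT.ip_two P.isPGroup' ha2 hcd.1
  -- the trace of `P`
  obtain ⟨U, hU⟩ : ∃ U : Subgroup (Sp 2 F), U = tr e (P : Subgroup A) := ⟨_, rfl⟩
  have hUp : IsPGroup 2 U := by
    rw [hU]
    have h3 : IsPGroup 2 ((P : Subgroup A).subgroupOf N) := P.isPGroup'.comap_of_injective N.subtype N.subtype_injective
    exact h3.map e.toMonoidHom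
  obtain ⟨v, hv, hfix⟩ := exists_fix (F := F) (m := 2) (by norm_num) hUp
  have hmax : ∀ R : Subgroup (Sp 2 F), IsPGroup 2 R → U ≤ R → R ≤ U := fun R hR h => by
    rw [hU] at h ⊢
    exact tr_max e P hR h
  have hrad : rad v ≤ U := rad_le hv hUp hfix hmax
  have hK : ∀ x ∈ (P : Subgroup A), ∀ y : Sp 2 F, y ∈ pt v hv ↔ ac e x y ∈ pt v hv := fun x hx y =>
    ac_norm e hcl (Q := rad v) (K := pt v hv) (by rw [← hU]; exact hrad)
      (fun z hz hz2 => mem_rad_of_comm hv (hfix z (by rw [hU]; exact hz)) fun g hg => hz2 g (by rw [← hU]; exact hrad hg))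
      (mem_pt_iff hv) hx y
  have hcard : (pt v hv).index * (Nat.card F - 1) + 1 = Nat.card F ^ (2 * 2) := index_pt hv
  have hZ : Subgroup.center (PSp 2 F) = ⊥ := by
    rw [Subgroup.eq_bot_iff_forall]
    intro x hx
    have h3 : (GpSp.Row.toPSp F 2).symm x ∈ Subgroup.center (Matrix.symplecticGroup (Fin 2) F) := by
      rw [Subgroup.mem_center_iff] at hx ⊢
      intro g
      apply (GpSp.Row.toPSp F 2).injective
      rw [map_mul, map_mul, MulEquiv.apply_symm_apply]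
      exact hx _
    have h4 : (GpSp.Row.toPSp F 2).symm x = 1 := by
      have h5 : ∀ y ∈ Subgroup.center (Matrix.symplecticGroup (Fin 2) F), y = 1 := by
        rw [GpSp.Row.center_eq_bot]
        exact fun y hy => Subgroup.mem_bot.1 hy
      exact h5 _ h3
    rw [← (GpSp.Row.toPSp F 2).apply_symm_apply x, h4, map_one]
  have hm0 : 0 < 2 := by norm_num
  have hW : Finite (CoxeterMatrix.B 2).Group := Cfsg.Agent.Nodes.TypeC.finite_W (CoxeterMatrix.B 2).toCoxeterSystem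
  refine H40.HT.good_of_perm hM N e P (pt v hv) (fun x hx => ⟨1, fun y => ?_⟩) (fun s hs => pt_self hv s hs) ?_ ?_ ?_
  · rw [hK x hx y, one_mul, inv_one, mul_one]
    rfl
  · intro hdvd
    obtain ⟨f, -, hf⟩ := FiniteField.card F 2
    rw [← Nat.card_eq_fintype_card] at hf
    obtain ⟨q, hq⟩ : ∃ q, Nat.card F = q := ⟨_, rfl⟩
    rw [hq] at hcard hf hlow hF
    obtain ⟨k, hk⟩ : ∃ k, q = k + 1 := ⟨q - 1, by omega⟩
    have h3 : (pt v hv).index = q ^ 3 + q ^ 2 + q + 1 := by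
      rw [hk, Nat.add_sub_cancel] at hcard
      have h4 : (pt v hv).index * k = (q ^ 3 + q ^ 2 + q + 1) * k := by
        rw [hk]
        have h5 : (pt v hv).index * k + 1 = ((k + 1) ^ 3 + (k + 1) ^ 2 + (k + 1) + 1) * k + 1 := by
          rw [hcard]; ring
        exact Nat.add_right_cancel h5
      exact Nat.eq_of_mul_eq_mul_right (by omega) h4
    rw [h3, Nat.add_sub_cancel] at hdvd
    have h4 : q ^ 3 + q ^ 2 + q = q * (q ^ 2 + q + 1) := by ring
    have h5 : Nat.Coprime (2 ^ (a + 1)) (q ^ 2 + q + 1) := by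
      apply Nat.Coprime.pow_left
      rw [Nat.coprime_two_left]
      have h6 : Even (q ^ 2 + q) := by
        have : q ^ 2 + q = q * (q + 1) := by ring
        rw [this]
        exact Nat.even_mul_succ_self q
      exact h6.add_one
    rw [h4] at hdvd
    have h6 := h5.dvd_of_dvd_mul_right hdvd
    have h7 := Nat.le_of_dvd (by omega) h6
    have h8 : 2 ^ (a + 1) = 2 * 2 ^ a := by ring
    have h9 : 0 < 2 ^ a := by positivity
    omega
  · intro _ ψ hψ hne
    exact even_of_frame (H148.SP.rgd (m := 2) (F := F) (CoxeterMatrix.B 2).toCoxeterSystem) (H148.SP.adj 2 F)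
      (H148.SP.GG_eq_top hm0 _) (H148.SP.hT hm0 hZ)
      (H743.GG.multOne_odd (H148.SP.rgd (m := 2) (F := F) (CoxeterMatrix.B 2).toCoxeterSystem) (H148.SP.adj 2 F)
        (H148.SP.anti hm0 _) H148.SP.odd_T)
      (H148.SP.hN le_rfl (by omega) _) hm0 (GpSp.Row.toPSp F 2) hv ψ hψ hne
  · intro ψ hψ
    by_contra hn
    have h3 := hdz M hM ψ hn
    have h4 := lt_fact N hC e P hcd
    exact hψ ((pow_dvd_pow 2 h4).trans h3)

end Cfsg.Agent.H886.HT
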