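import Mathlib.GroupTheory.Sylow
import Mathlib.GroupTheory.Nilpotent

/-!
# S4933, own characteristic: class two (helper886)

`P ∈ Syl_p(A)` of class at most two, `N ⊴ A`: every `x ∈ P` normalizes every `Q` with `Z(U) ≤ Q ≤ U`, `U = P ∩ N`.
-/

set_option autoImplicit false

namespace Cfsg.Agent.H886.HT

open Subgroup
open scoped commutatorElement

universe u v

/-- in a group of class at most two the commutators are central -/
theorem comm_of_class {P : Type u} [Group P] (h : ⁅⁅(⊤ : Subgroup P), (⊤ : Subgroup P)⁆, (⊤ : Subgroup P)⁆ = ⊥)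
    (x y z : P) : x * y * x⁻¹ * y⁻¹ * z = z * (x * y * x⁻¹ * y⁻¹) := by
  have h1 : ⁅⁅x, y⁆, z⁆ ∈ ⁅⁅(⊤ : Subgroup P), (⊤ : Subgroup P)⁆, (⊤ : Subgroup P)⁆ :=
    commutator_mem_commutator (commutator_mem_commutator (mem_top x) (mem_top y)) (mem_top z)
  rw [h, mem_bot, commutatorElement_eq_one_iff_mul_comm] at h1
  exact h1

variable {A : Type u} [Group A] {N : Subgroup A} [hN : N.Normal] {S : Type v} [Group S]

/-- the trace of `P` on `S ≃* N` -/
def tr (e : N ≃* S) (P : Subgroup A) : Subgroup S := (P.subgroupOf N).map e.toMonoidHom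

omit hN in
theorem mem_tr {e : N ≃* S} {P : Subgroup A} {s : S} : s ∈ tr e P ↔ ((e.symm s : N) : A) ∈ P := by
  constructor
  · rintro ⟨n, hn, rfl⟩
    have h1 : e.symm (e.toMonoidHom n) = n := e.symm_apply_apply n
    rw [h1]
    exact hn
  · intro h
    exact ⟨e.symm s, h, e.apply_symm_apply s⟩

/-- the action of `x` on `S` -/
def ac (e : N ≃* S) (x : A) : S →* S := e.toMonoidHom.comp ((MulAut.conjNormal x : MulAut N).toMonoidHom.comp
  e.symm.toMonoidHom)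

theorem ac_apply (e : N ≃* S) (x : A) (s : S) : ac e x s = e (MulAut.conjNormal x (e.symm s)) := rfl

theorem ac_inv (e : N ≃* S) (x : A) (s : S) : ac e x⁻¹ (ac e x s) = s := by
  rw [ac_apply, ac_apply, e.symm_apply_apply, ← MulAut.mul_apply, ← map_mul, inv_mul_cancel, map_one,
    MulAut.one_apply, e.apply_symm_apply]

/-- `x ∈ P` acts on `U` modulo the centre of `U` -/
theorem ac_eq (e : N ≃* S) {P : Subgroup A} (hP : ⁅⁅(⊤ : Subgroup P), (⊤ : Subgroup P)⁆, (⊤ : Subgroup P)⁆ = ⊥)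
    {x : A} (hx : x ∈ P) {s : S} (hs : s ∈ tr e P) :
    ∃ z ∈ tr e P, (∀ u ∈ tr e P, z * u = u * z) ∧ ac e x s = z * s := by
  have h1 : ac e x s * s⁻¹ ∈ tr e P := by
    rw [mem_tr, map_mul, map_inv, ac_apply, e.symm_apply_apply]
    have h2 := mem_tr.1 hs
    have h3 : (((MulAut.conjNormal x (e.symm s)) * (e.symm s)⁻¹ : N) : A) =
        x * (e.symm s : N) * x⁻¹ * ((e.symm s : N) : A)⁻¹ := by
      rw [Subgroup.coe_mul, MulAut.conjNormal_apply, Subgroup.coe_inv]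
    rw [h3]
    exact P.mul_mem (P.mul_mem (P.mul_mem hx h2) (P.inv_mem hx)) (P.inv_mem h2)
  refine ⟨ac e x s * s⁻¹, h1, fun u hu => ?_, by rw [inv_mul_cancel_right]⟩
  apply e.symm.injective
  apply Subtype.ext
  have h2 := mem_tr.1 hs
  have h4 := mem_tr.1 hu
  have h5 := congrArg Subtype.val (comm_of_class hP ⟨x, hx⟩ ⟨_, h2⟩ ⟨_, h4⟩)
  simp only [map_mul, map_inv, ac_apply, e.symm_apply_apply, Subgroup.coe_mul, MulAut.conjNormal_apply,
    Subgroup.coe_inv] at h5 ⊢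
  exact h5

/-- **`x ∈ P` stabilizes every `Q` with `Z(U) ≤ Q ≤ U`** -/
theorem ac_mem (e : N ≃* S) {P : Subgroup A} (hP : ⁅⁅(⊤ : Subgroup P), (⊤ : Subgroup P)⁆, (⊤ : Subgroup P)⁆ = ⊥)
    {Q : Subgroup S} (hQ : Q ≤ tr e P) (hZ : ∀ z ∈ tr e P, (∀ u ∈ tr e P, z * u = u * z) → z ∈ Q)
    {x : A} (hx : x ∈ P) {s : S} (hs : s ∈ Q) : ac e x s ∈ Q := by
  obtain ⟨z, h1, h2, h3⟩ := ac_eq e hP hx (hQ hs)
  rw [h3]
  exact Q.mul_mem (hZ z h1 h2) hs

theorem ac_mem_iff (e : N ≃* S) {P : Subgroup A} (hP : ⁅⁅(⊤ : Subgroup P), (⊤ : Subgroup P)⁆, (⊤ : Subgroup P)⁆ = ⊥)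
    {Q : Subgroup S} (hQ : Q ≤ tr e P) (hZ : ∀ z ∈ tr e P, (∀ u ∈ tr e P, z * u = u * z) → z ∈ Q)
    {x : A} (hx : x ∈ P) {s : S} : ac e x s ∈ Q ↔ s ∈ Q := by
  refine ⟨fun h => ?_, ac_mem e hP hQ hZ hx⟩
  have h1 := ac_mem e hP hQ hZ (P.inv_mem hx) h
  rwa [ac_inv] at h1

/-- **`x ∈ P` stabilizes the normalizer of such a `Q`** -/
theorem ac_norm (e : N ≃* S) {P : Subgroup A} (hP : ⁅⁅(⊤ : Subgroup P), (⊤ : Subgroup P)⁆, (⊤ : Subgroup P)⁆ = ⊥)
    {Q K : Subgroup S} (hQ : Q ≤ tr e P) (hZ : ∀ z ∈ tr e P, (∀ u ∈ tr e P, z * u = u * z) → z ∈ Q)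
    (hK : ∀ s : S, s ∈ K ↔ ∀ y, y ∈ Q ↔ s * y * s⁻¹ ∈ Q) {x : A} (hx : x ∈ P) (y : S) :
    y ∈ K ↔ ac e x y ∈ K := by
  have key : ∀ x ∈ P, ∀ y : S, y ∈ K → ac e x y ∈ K := by
    intro x hx y hy
    rw [hK] at hy ⊢
    intro t
    have h1 : ac e x (ac e x⁻¹ t) = t := by
      have := ac_inv e x⁻¹ t
      rwa [inv_inv] at this
    rw [← h1, ← map_mul, ← map_inv, ← map_mul, ac_mem_iff e hP hQ hZ hx, ac_mem_iff e hP hQ hZ hx]
    exact hy _
  refine ⟨key x hx y, fun h => ?_⟩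
  have h1 := key x⁻¹ (P.inv_mem hx) _ h
  rwa [ac_inv] at h1

/-- the trace of a Sylow subgroup is a Sylow subgroup (it contains every `p`-subgroup above it) -/
theorem tr_max {p : ℕ} [Fact p.Prime] [Finite A] (e : N ≃* S) (P : Sylow p A) {R : Subgroup S} (hR : IsPGroup p R)
    (h : tr e (P : Subgroup A) ≤ R) : R ≤ tr e (P : Subgroup A) := by
  have h1 : IsPGroup p (R.comap e.toMonoidHom) := hR.comap_of_injective e.toMonoidHom e.injective
  have h2 : IsPGroup p ((R.comap e.toMonoidHom).map N.subtype) := h1.map N.subtype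
  obtain ⟨P', hP'⟩ := h2.exists_le_sylow
  obtain ⟨g, hg⟩ := MulAction.exists_smul_eq A P' P
  have hcard : Nat.card ((P : Subgroup A).subgroupOf N) = Nat.card ((P' : Subgroup A).subgroupOf N) := by
    rw [← hg]
    refine (Nat.card_congr (Equiv.subtypeEquiv (MulAut.conjNormal g : MulAut N).toEquiv fun n => ?_)).symm
    rw [Subgroup.mem_subgroupOf, Subgroup.mem_subgroupOf]
    change (n : A) ∈ (P' : Subgroup A) ↔ ((MulAut.conjNormal g n : N) : A) ∈ ((g • P' : Sylow p A) : Subgroup A)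
    rw [MulAut.conjNormal_apply, Sylow.coe_subgroup_smul, Subgroup.mem_pointwise_smul_iff_inv_smul_mem]
    change _ ↔ (MulAut.conj g)⁻¹ • (g * (n : A) * g⁻¹) ∈ _
    rw [← map_inv, MulAut.smul_def, MulAut.conj_apply]
    have : g⁻¹ * (g * (n : A) * g⁻¹) * g⁻¹⁻¹ = n := by group
    rw [this]
  have h3 : Nat.card (tr e (P : Subgroup A)) = Nat.card ((P : Subgroup A).subgroupOf N) :=
    (Nat.card_congr ((P : Subgroup A).subgroupOf N |>.equivMapOfInjective e.toMonoidHom e.injective).toEquiv).symm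
  have h4 : R ≤ tr e (P' : Subgroup A) := by
    intro s hs
    rw [mem_tr]
    apply hP'
    refine ⟨e.symm s, ?_, rfl⟩
    change e (e.symm s) ∈ R
    rwa [e.apply_symm_apply]
  have h5 : Nat.card (tr e (P' : Subgroup A)) = Nat.card ((P' : Subgroup A).subgroupOf N) :=
    (Nat.card_congr ((P' : Subgroup A).subgroupOf N |>.equivMapOfInjective e.toMonoidHom e.injective).toEquiv).symm
  have hfin : Finite S := Finite.of_equiv _ e.toEquiv
  have h6 : tr e (P : Subgroup A) = R := by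
    apply Subgroup.eq_of_le_of_card_ge h
    rw [h3, hcard, ← h5]
    exact Subgroup.card_le_of_le h4
  rw [h6]

end Cfsg.Agent.H886.HT
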